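import Cfsg.Agent.H670.S8.KB
import Cfsg.Agent.H433.Fpr.Fi23

/-!
# A crude upper bound for the number of classes of `Fi23` (helper305, for S4908)

`k_le : k(Fi23) ≤ 30000000` from the centralizers of the elements of order 23, 17, 13, 11, 7.
-/

set_option autoImplicit false

namespace Cfsg.Agent.H305.S8.Fi23K

open Cfsg Subgroup Cfsg.Agent.H670.S8 Cfsg.Agent.H961.SepFi23

/-- one prime -/
theorem step {T : Type*} [Group T] [Finite T] {p P c : ℕ} (hp : p.Prime) (hd : p ∣ Nat.card T) (hc : p.Coprime P)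
    (hC : ∀ R : Subgroup T, Nat.card R = p → Nat.card (centralizer (R : Set T)) ≤ c) : nd T P ≤ c + nd T (P * p) := by
  have : Fact p.Prime := ⟨hp⟩
  obtain ⟨x, hx⟩ := exists_prime_orderOf_dvd_card' (G := T) p hd
  have h1 := hC (zpowers x) (by rw [Nat.card_zpowers, hx])
  have h2 : centralizer ((zpowers x : Subgroup T) : Set T) = centralizer ({x} : Set T) := by
    rw [zpowers_eq_closure, centralizer_closure]
  rw [h2] at h1
  have h3 := nd_step hp hc hx
  omega

theorem k_le : Nat.card (ConjClasses Cfsg.Spor.Fi23) ≤ 30000000 := by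
  have := fin
  have hcard := card
  have h23 := step (T := Cfsg.Spor.Fi23) (p := 23) (P := 1) (c := 23) (by norm_num) (by rw [hcard]; decide +kernel) (by norm_num)
    (fun R hR => (data23 hR).1.le)
  have h17 := step (T := Cfsg.Spor.Fi23) (p := 17) (P := 23) (c := 17) (by norm_num) (by rw [hcard]; decide +kernel) (by norm_num)
    (fun R hR => (data17 hR).1.le)
  have h13 := step (T := Cfsg.Spor.Fi23) (p := 13) (P := 391) (c := 78) (by norm_num) (by rw [hcard]; decide +kernel) (by norm_num)
    (fun R hR => (data13 hR).1.le)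
  have h11 := step (T := Cfsg.Spor.Fi23) (p := 11) (P := 5083) (c := 88) (by norm_num) (by rw [hcard]; decide +kernel) (by norm_num)
    (fun R hR => Nat.le_of_dvd (by norm_num) (data11 hR).1)
  have h7 := step (T := Cfsg.Spor.Fi23) (p := 7) (P := 55913) (c := 5040) (by norm_num) (by rw [hcard]; decide +kernel) (by norm_num)
    (fun R hR => by
      rw [← Cfsg.Agent.H433.Fpr.Fi23.n7 hR]
      exact card_le_of_le (centralizer_le_normalizer _))
  have h0 : nd Cfsg.Spor.Fi23 391391 * 153186914881 ≤ 4089470473293004800 := by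
    have h1 := nd_mul_le (T := Cfsg.Spor.Fi23) (P := 391391)
    have h2 : Nat.card Cfsg.Spor.Fi23 = 4089470473293004800 := hcard.trans (by decide +kernel)
    rw [h2] at h1
    exact h1
  have e1 : 1 * 23 = 23 := rfl
  have e2 : 23 * 17 = 391 := rfl
  have e3 : 391 * 13 = 5083 := rfl
  have e4 : 5083 * 11 = 55913 := rfl
  have e5 : 55913 * 7 = 391391 := rfl
  rw [e1] at h23
  rw [e2] at h17
  rw [e3] at h13
  rw [e4] at h11
  rw [e5] at h7
  rw [← nd_one]
  generalize nd Cfsg.Spor.Fi23 391391 = a at *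
  generalize nd Cfsg.Spor.Fi23 55913 = b at *
  generalize nd Cfsg.Spor.Fi23 5083 = c at *
  generalize nd Cfsg.Spor.Fi23 391 = d at *
  generalize nd Cfsg.Spor.Fi23 23 = e at *
  generalize nd Cfsg.Spor.Fi23 1 = f at *
  clear hcard
  omega

end Cfsg.Agent.H305.S8.Fi23K
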